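import Groth.Prelude.Def_FinFr
import Groth.Prelude.Def_Frob
import Groth.Agent.EtFrobCorr.Frob
import Groth.Agent.EtAcycX.Descend
import Groth.Agent.EtAcycX.Tors
import Groth.Agent.EtAcycX.Restrict
import Groth.Agent.WeilLib.FrobPow

/-!
The absolute Frobenius acts as the identity on étale cohomology with constant coefficients; hence pullback
along `F × id` is the geometric Frobenius.
-/

set_option autoImplicit false
set_option backward.isDefEq.respectTransparency false
set_option backward.isDefEq.respectTransparency.types false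
set_option linter.style.haveILetI false
set_option linter.auxLemma false
set_option linter.unusedSectionVars false
set_option maxHeartbeats 1000000

universe u

open CategoryTheory CategoryTheory.Limits CategoryTheory.Abelian AlgebraicGeometry Opposite

noncomputable section

namespace Groth.Agent.FinFrAbs

attribute [local instance 100000] EtCoh.H._proof_1 Groth.Agent.EtMV.hext
attribute [local instance 200000] Groth.Agent.EtMV.hextAb

/-- a generator of `A` -/
def gen {A : AddCommGrpCat.{u + 1}} (a : A) : AddCommGrpCat.of (ULift.{u + 1} ℤ) ⟶ A :=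
  AddCommGrpCat.ofHom (((zmultiplesHom A) a).comp AddEquiv.ulift.toAddMonoidHom)

theorem gen_up {A : AddCommGrpCat.{u + 1}} (a : A) : gen a (ULift.up 1) = a := one_zsmul a

/-- morphisms out of `const`, pulled back twice, are determined on the generators -/
theorem ext_gen {W Y X : Scheme.{u}} (f : W ⟶ Y) (g : Y ⟶ X) {A : AddCommGrpCat.{u + 1}} {T : EtCoh.Ab W}
    {α β : (EtCoh.pull f).obj ((EtCoh.pull g).obj ((constantSheaf X.smallEtaleTopology AddCommGrpCat.{u + 1}).obj A)) ⟶ T}
    (h : ∀ a : A, (EtCoh.pull f).map ((EtCoh.pull g).map ((constantSheaf X.smallEtaleTopology AddCommGrpCat.{u + 1}).map (gen a))) ≫ α =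
      (EtCoh.pull f).map ((EtCoh.pull g).map ((constantSheaf X.smallEtaleTopology AddCommGrpCat.{u + 1}).map (gen a))) ≫ β) :
    α = β := by
  let adj := (((EtCore.constAdj X).comp (EtCoh.pullPushAdj g)).comp (EtCoh.pullPushAdj f))
  refine (adj.homEquiv A T).injective ?_
  ext a
  have h1 := congrArg (adj.homEquiv (AddCommGrpCat.of (ULift.{u + 1} ℤ)) T) (h a)
  erw [Adjunction.homEquiv_naturality_left, Adjunction.homEquiv_naturality_left] at h1
  have h2 := ConcreteCategory.congr_hom h1 (ULift.up (1 : ℤ))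
  rw [ConcreteCategory.comp_apply, ConcreteCategory.comp_apply, gen_up] at h2
  exact h2

theorem pullConst_comp_gen {W Y X : Scheme.{u}} (f : W ⟶ Y) (g : Y ⟶ X) (k : W ⟶ X) (w : f ≫ g = k)
    (M : Type) [AddCommGroup M] :
    (EtCoh.pull f).map (EtCore.pullConst g M).hom ≫ (EtCore.pullConst f M).hom =
      EtLimit.ψh f g k w (EtCoh.const X M) ≫ (EtCore.pullConst k M).hom := by
  refine ext_gen f g fun a => ?_
  let u := gen a
  let CX := constantSheaf X.smallEtaleTopology AddCommGrpCat.{u + 1}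
  let CY := constantSheaf Y.smallEtaleTopology AddCommGrpCat.{u + 1}
  let CW := constantSheaf W.smallEtaleTopology AddCommGrpCat.{u + 1}
  have ng : (EtCoh.pull g).map (CX.map u) ≫ (EtCore.pullConst g M).hom =
      (EtCore.pullConst g ℤ).hom ≫ CY.map u := (EtCore.pullConstIso g).hom.naturality u
  have nf : (EtCoh.pull f).map (CY.map u) ≫ (EtCore.pullConst f M).hom =
      (EtCore.pullConst f ℤ).hom ≫ CW.map u := (EtCore.pullConstIso f).hom.naturality u
  have nk : (EtCoh.pull k).map (CX.map u) ≫ (EtCore.pullConst k M).hom =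
      (EtCore.pullConst k ℤ).hom ≫ CW.map u := (EtCore.pullConstIso k).hom.naturality u
  have nψ := EtLimit.ψh_natural f g k w (CX.map u)
  have hz : (EtCoh.pull f).map (EtCore.pullConst g ℤ).hom ≫ (EtCore.pullConst f ℤ).hom =
      EtLimit.ψh f g k w (EtCoh.const X ℤ) ≫ (EtCore.pullConst k ℤ).hom := by
    have h := EtLimit.pullConst_comp f g k w
    rw [Iso.inv_comp_eq, ← Functor.mapIso_inv, Iso.inv_comp_eq] at h
    rw [EtLimit.ψh_eq] at h
    rw [h]
    simp
  rw [← Functor.map_comp_assoc, ng, Functor.map_comp_assoc, nf, ← Category.assoc, hz, Category.assoc,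
    reassoc_of% nψ, nk]

variable [Fact FinFr.PullExact.{u}] {Λ : Type} [CommRing Λ]

theorem endConstAdd_comp {X : Scheme.{u}} (f g k : X ⟶ X) (w : f ≫ g = k) (i : ℕ)
    (x : EtCoh.H X (EtCoh.const X Λ) i) :
    FinFr.endConstAdd f i (FinFr.endConstAdd g i x) = FinFr.endConstAdd k i x := by
  haveI := FinFr.pullExact_out f
  haveI := FinFr.pullExact_out g
  haveI := FinFr.pullExact_out k
  have hh : ∀ (a : X ⟶ X) [PreservesFiniteLimits (EtCoh.pull a)] (y : EtCoh.H X (EtCoh.const X Λ) i),
      FinFr.endConstAdd a i y = Ext.comp (EtCore.Hpull a (EtCoh.const X Λ) i y)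
        (Ext.mk₀ (EtCore.pullConst a Λ).hom) (add_zero i) := fun a _ y => rfl
  rw [hh, hh, hh, EtAcycX.Hpull_comp_mk₀, Ext.comp_assoc_of_second_deg_zero, Ext.mk₀_comp_mk₀,
    ← EtAcycX.Hpull_HpullVia f g k w, EtAcycX.HpullVia_eq, Ext.comp_assoc_of_second_deg_zero, Ext.mk₀_comp_mk₀,
    pullConst_comp_gen f g k w Λ]

theorem HpullVia_const {W Y X : Scheme.{u}} (f : W ⟶ Y) (t : Y ⟶ X) (k : W ⟶ X) (w : f ≫ t = k)
    [PreservesFiniteLimits (EtCoh.pull f)] (n : ℕ)
    (x : EtCoh.H Y ((EtCoh.pull t).obj (EtCoh.const X Λ)) n) :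
    Sheaf.H.map (EtCore.pullConst k Λ).hom n (EtCore.HpullVia f t k w (EtCoh.const X Λ) n x) =
      Sheaf.H.map (EtCore.pullConst f Λ).hom n
        (EtCore.Hpull f (EtCoh.const Y Λ) n (Sheaf.H.map (EtCore.pullConst t Λ).hom n x)) := by
  rw [EtCore.Hpull_natural, ← Sheaf.H.map_comp_apply, pullConst_comp_gen f t k w Λ, Sheaf.H.map_comp_apply]
  rfl

omit [Fact FinFr.PullExact.{u}] [CommRing Λ] in
theorem corr_const_gen {X : Scheme.{u}} (φ : X ⟶ X) (e : 𝟭 X.Etale ≅ EtCoh.bc φ) (M : Type) [AddCommGroup M] :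
    EtFrobCorr.corr φ e (EtCoh.const X M) = (EtCore.pullConst φ M).hom := by
  let A := AddCommGrpCat.of (ULift.{u + 1} M)
  let adj₁ := ((EtCore.constAdj X).comp (EtCoh.pullPushAdj φ)).ofNatIsoRight (EtCore.pushGsecIso φ)
  refine (adj₁.homEquiv A (EtCoh.const X M)).injective ?_
  refine Eq.trans ?_ (Adjunction.homEquiv_leftAdjointUniq_hom_app adj₁ (EtCore.constAdj X) A).symm
  have h : adj₁.homEquiv A (EtCoh.const X M) (EtFrobCorr.corr φ e (EtCoh.const X M)) =
      (EtCore.constAdj X).homEquiv A _ (((EtCoh.pullPushAdj φ).homEquiv _ _) (EtFrobCorr.corr φ e (EtCoh.const X M))) ≫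
        (EtCore.pushGsecIso φ).hom.app _ := by
    rw [Adjunction.homEquiv_ofNatIsoRight_apply, Adjunction.comp_homEquiv]
    rfl
  rw [h, EtFrobCorr.corr, Equiv.apply_symm_apply, Adjunction.homEquiv_unit]
  have h2 : e.inv.app (EtCoh.top X) = (EtCore.bcTopIso φ).hom :=
    (EtCore.topIsTerminal X).hom_ext _ _
  ext x
  show (EtCoh.const X M).obj.map (EtCore.bcTopIso φ).inv.op
    ((EtCoh.const X M).obj.map (e.inv.app (EtCoh.top X)).op (((EtCore.constAdj X).unit.app A) x)) = _
  rw [h2, ← ConcreteCategory.comp_apply, ← Functor.map_comp, ← op_comp, Iso.inv_hom_id, op_id]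
  erw [CategoryTheory.Functor.map_id]
  rfl

theorem endConstAdd_auto {X : Scheme.{u}} (φ : X ⟶ X) (e : 𝟭 X.Etale ≅ EtCoh.bc φ) (i : ℕ)
    (x : EtCoh.H X (EtCoh.const X Λ) i) : FinFr.endConstAdd φ i x = x := by
  haveI := FinFr.pullExact_out φ
  have h := EtFrobCorr.main φ e (EtCoh.const X Λ) i x
  rw [corr_const_gen] at h
  exact h

theorem endConstAdd_frob (p : ℕ) [Fact p.Prime] (X : Scheme.{u}) [FrobSch.IsCharP X p] (i : ℕ)
    (x : EtCoh.H X (EtCoh.const X Λ) i) : FinFr.endConstAdd (FrobSch.frob X p) i x = x := by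
  have hc : ∀ U : X.Etale, FrobSch.IsCharP U.left p := fun U => FrobSch.IsCharP.of_hom (Y := X) U.hom p
  have hA : ∀ (Y : Scheme.{u}) (hY : FrobSch.IsCharP Y p), EtFrobCorr.IsAbsFrob p (@FrobSch.frob Y p _ hY) := fun Y hY =>
    { base := fun y => rfl
      preim := fun V => rfl
      app := fun V s => by
        show s ^ p = Y.presheaf.map (𝟙 _) (s ^ p)
        rw [CategoryTheory.Functor.map_id]
        rfl }
  have hw : ∀ U : X.Etale, @FrobSch.frob U.left p _ (hc U) ≫ U.hom = U.hom ≫ FrobSch.frob X p := fun U =>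
    @FrobSch.frob_comp U.left p _ (hc U) X _ U.hom
  exact endConstAdd_auto (FrobSch.frob X p)
    (EtFrobCorr.frobIso (FrobSch.frob X p) (hA X inferInstance) FrobSch.IsCharP.natCast_eq_zero
      (fun U => @FrobSch.frob U.left p _ (hc U)) (fun U => hA U.left (hc U)) hw
      (fun U => pullback.lift_snd _ _ _)) i x

theorem endConstAdd_frobPow (p : ℕ) [Fact p.Prime] (X : Scheme.{u}) [FrobSch.IsCharP X p] (e i : ℕ)
    (x : EtCoh.H X (EtCoh.const X Λ) i) : FinFr.endConstAdd (WeilLib.frobPow p X (e + 1)) i x = x := by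
  induction e with
  | zero =>
    rw [show WeilLib.frobPow p X 1 = FrobSch.frob X p from Category.id_comp _]
    exact endConstAdd_frob p X i x
  | succ e ih =>
    rw [← endConstAdd_comp (WeilLib.frobPow p X (e + 1)) (FrobSch.frob X p) (WeilLib.frobPow p X (e + 1 + 1)) rfl i x,
      endConstAdd_frob p X i x]
    exact ih

section Main

variable {k : Type u} [Field k] [Fintype k] {K : Type u} [Field K] [Algebra k K] [Algebra.IsAlgebraic k K]
  {X₀ : Scheme.{u}} (a : X₀ ⟶ Spec (CommRingCat.of k))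

/-- Pullback along `F × id` is the geometric Frobenius, on cohomology with constant coefficients. -/
theorem frob_eq (p e : ℕ) [Fact p.Prime] [CharP k p] (hq : Fintype.card k = p ^ (e + 1))
    [FrobSch.IsCharP X₀ p] (F : X₀ ⟶ X₀) (hF : F = WeilLib.frobPow p X₀ (e + 1)) (w : F ≫ a = a) (n : ℕ)
    (x : EtCoh.H (FinFr.ext K a) (EtLam.pullback (FinFr.extπ K a) (FinFr.constLam Λ X₀)).carrier n) :
    FinFr.frob (K := K) a (FinFr.constLam Λ X₀) n x =
      Sheaf.H.map (EtCore.pullConst (FinFr.extπ K a) Λ).inv n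
        (FinFr.endConstAdd (Λ := Λ) (FinFr.extHom K a F w) n
          (Sheaf.H.map (EtCore.pullConst (FinFr.extπ K a) Λ).hom n x)) := by
  let σ := FinFr.arith k K
  let γ := FinFr.galAct a σ.symm
  let Φ := FinFr.extHom K a F w
  haveI : FrobSch.IsCharP (FinFr.ext K a) p := FrobSch.IsCharP.of_hom (FinFr.extπ K a) p
  haveI := FinFr.pullExact_out γ
  haveI : CharP K p := charP_of_injective_algebraMap (algebraMap k K).injective p
  haveI : ExpChar K p := ExpChar.prime Fact.out
  have hσ : WeilLib.frobPow p (Spec (CommRingCat.of K)) (e + 1) = Spec.map (CommRingCat.ofHom (σ : K →+* K)) := by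
    rw [WeilLib.frobPow_Spec p K]
    congr 2
    ext r
    show iterateFrobenius K p (e + 1) r = r ^ Fintype.card k
    rw [iterateFrobenius_def, hq]
  have hγσ : γ ≫ FinFr.galAct a σ = 𝟙 _ := by
    apply pullback.hom_ext
    · rw [Category.assoc, FinFr.galAct_fst, FinFr.galAct_fst, Category.id_comp]
    · rw [Category.assoc, FinFr.galAct_snd, ← Category.assoc, FinFr.galAct_snd, Category.assoc, ← Spec.map_comp,
        Category.id_comp]
      refine (congrArg _ ?_).trans (Category.comp_id _)
      rw [← Spec.map_id]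
      congr 1
      ext r
      exact σ.symm_apply_apply r
  have hA : Φ ≫ FinFr.galAct a σ = WeilLib.frobPow p (FinFr.ext K a) (e + 1) := by
    apply pullback.hom_ext
    · rw [Category.assoc, FinFr.galAct_fst, WeilLib.frobPow_comp p (FinFr.extπ K a), ← hF]
      exact FinFr.extHom_fst a F w
    · rw [Category.assoc, FinFr.galAct_snd, ← Category.assoc, WeilLib.frobPow_comp p (FinFr.extStr K a), hσ]
      congr 1
      exact (pullback.lift_snd _ _ _).trans (Category.comp_id _)
  have hΦ : WeilLib.frobPow p (FinFr.ext K a) (e + 1) ≫ γ = Φ := by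
    rw [← hA, Category.assoc]
    have : FinFr.galAct a σ ≫ γ = 𝟙 _ := by
      apply pullback.hom_ext
      · rw [Category.assoc, FinFr.galAct_fst, FinFr.galAct_fst, Category.id_comp]
      · rw [Category.assoc, FinFr.galAct_snd, ← Category.assoc, FinFr.galAct_snd, Category.assoc, ← Spec.map_comp,
          Category.id_comp]
        refine (congrArg _ ?_).trans (Category.comp_id _)
        rw [← Spec.map_id]
        congr 1
        ext r
        exact σ.apply_symm_apply r
    rw [this, Category.comp_id]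
  have key : Sheaf.H.map (EtCore.pullConst (FinFr.extπ K a) Λ).hom n
      (FinFr.frob (K := K) a (FinFr.constLam Λ X₀) n x) =
      FinFr.endConstAdd Φ n (Sheaf.H.map (EtCore.pullConst (FinFr.extπ K a) Λ).hom n x) := by
    rw [← endConstAdd_comp _ γ Φ hΦ, endConstAdd_frobPow]
    exact HpullVia_const γ (FinFr.extπ K a) (FinFr.extπ K a) (FinFr.galAct_fst a σ.symm) n x
  rw [← key, ← Sheaf.H.map_comp_apply, Iso.hom_inv_id, Sheaf.H.map_id_apply]

end Main

end Groth.Agent.FinFrAbs
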